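import Groth.Agent.L24.Boot.QuotRep
import Groth.Agent.L24.Boot.LqfEtale
import Groth.Agent.L23.Descent

/-!
# Descent of a Néron model along a smooth surjective cover: the quotient sheaf

`P` is the cover, `N₀` the Néron model over `P`, `A` the scheme over the open `Uo`.
-/

set_option autoImplicit false
set_option backward.isDefEq.respectTransparency false
set_option backward.isDefEq.respectTransparency.types false

universe u

open CategoryTheory CategoryTheory.Limits AlgebraicGeometry Opposite AlgSp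

noncomputable section

namespace Groth.L11.NeronSp

variable {S : Scheme.{u}}

theorem isPullback_prod_left (X Y : Over S) :
    IsPullback (Limits.prod.fst : X ⨯ Y ⟶ X).left (Limits.prod.snd : X ⨯ Y ⟶ Y).left X.hom Y.hom :=
  IsPullback.of_iso_pullback ⟨by rw [Over.w, Over.w]⟩ (Over.prodLeftIsoPullback X Y)
    (Over.prodLeftIsoPullback_hom_fst X Y) (Over.prodLeftIsoPullback_hom_snd X Y)

theorem smooth_fst (X Y : Over S) (h : Smooth Y.hom) : Smooth (Limits.prod.fst : X ⨯ Y ⟶ X).left :=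
  MorphismProperty.of_isPullback (P := @Smooth) (isPullback_prod_left X Y).flip h

theorem smooth_snd (X Y : Over S) (h : Smooth X.hom) : Smooth (Limits.prod.snd : X ⨯ Y ⟶ Y).left :=
  MorphismProperty.of_isPullback (P := @Smooth) (isPullback_prod_left X Y) h

theorem surjective_fst (X Y : Over S) (h : Surjective Y.hom) :
    Surjective (Limits.prod.fst : X ⨯ Y ⟶ X).left :=
  MorphismProperty.of_isPullback (P := @Surjective) (isPullback_prod_left X Y).flip h

theorem smooth_prod (X Y : Over S) (hX : Smooth X.hom) (hY : Smooth Y.hom) : Smooth (X ⨯ Y).hom := by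
  haveI := smooth_snd X Y hX
  rw [← Over.w (Limits.prod.snd : X ⨯ Y ⟶ Y)]
  infer_instance

/-- The data to descend. -/
structure Data (S : Scheme.{u}) where
  P : Over S
  N₀ : Over S
  Uo : Over S
  A : Over S
  π : N₀ ⟶ P
  ao : A ⟶ Uo
  ψ : N₀ ⨯ Uo ⟶ A
  hψ : ψ ≫ ao = Limits.prod.snd
  smooth_P : Smooth P.hom
  surj_P : Surjective P.hom
  smooth_π : Smooth π.left
  sep_π : IsSeparated π.left
  bij : ∀ (T : Over S) (u : T ⟶ Uo) (y : T ⟶ P) (x : T ⟶ A), x ≫ ao = u →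
    ∃! f : T ⟶ N₀, f ≫ π = y ∧ prod.lift f u ≫ ψ = x
  inj : ∀ (Y : Over S) (y : Y ⟶ P), Smooth y.left → ∀ f₁ f₂ : Y ⟶ N₀, f₁ ≫ π = y → f₂ ≫ π = y →
    (∀ (W : Over S) (w : W ⟶ Y) (u : W ⟶ Uo),
      prod.lift (w ≫ f₁) u ≫ ψ = prod.lift (w ≫ f₂) u ≫ ψ) → f₁ = f₂
  surj : ∀ (Y : Over S) (y : Y ⟶ P), Smooth y.left → ∀ γ : Y ⨯ Uo ⟶ A, γ ≫ ao = Limits.prod.snd →
    ∃ f : Y ⟶ N₀, f ≫ π = y ∧
      ∀ (W : Over S) (w : W ⟶ Y) (u : W ⟶ Uo), prod.lift (w ≫ f) u ≫ ψ = prod.lift w u ≫ γ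

namespace Data

variable (D : Data S)

theorem smooth_N₀ : Smooth D.N₀.hom := by
  haveI := D.smooth_π
  haveI := D.smooth_P
  rw [← Over.w D.π]
  infer_instance

/-- `R = N₀ × P`: a point and the point of the cover to transport it to. -/
abbrev R : Over S := D.N₀ ⨯ D.P

theorem exists_t : ∃ f : D.R ⟶ D.N₀, f ≫ D.π = Limits.prod.snd ∧
    ∀ (W : Over S) (w : W ⟶ D.R) (u : W ⟶ D.Uo),
      prod.lift (w ≫ f) u ≫ D.ψ = prod.lift w u ≫ prod.map Limits.prod.fst (𝟙 D.Uo) ≫ D.ψ :=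
  D.surj D.R Limits.prod.snd (smooth_snd _ _ D.smooth_N₀) _ (by rw [Category.assoc, D.hψ]; simp)

/-- Transport along the cover. -/
def t : D.R ⟶ D.N₀ := D.exists_t.choose

@[reassoc]
theorem t_π : D.t ≫ D.π = Limits.prod.snd := D.exists_t.choose_spec.1

theorem tr_π {W : Over S} (a : W ⟶ D.N₀) (y : W ⟶ D.P) : prod.lift a y ≫ D.t ≫ D.π = y := by
  rw [D.t_π, prod.lift_snd]

theorem tr_ψ {W : Over S} (a : W ⟶ D.N₀) (y : W ⟶ D.P) (u : W ⟶ D.Uo) :
    prod.lift (prod.lift a y ≫ D.t) u ≫ D.ψ = prod.lift a u ≫ D.ψ := by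
  rw [show D.t = D.exists_t.choose from rfl, D.exists_t.choose_spec.2 W (prod.lift a y) u,
    prod.lift_map_assoc, prod.lift_fst, Category.comp_id]

theorem tr_self {W : Over S} (a : W ⟶ D.N₀) : prod.lift a (a ≫ D.π) ≫ D.t = a := by
  have h : prod.lift (𝟙 D.N₀) D.π ≫ D.t = 𝟙 D.N₀ := by
    refine D.inj D.N₀ D.π D.smooth_π _ _ (by rw [Category.assoc, D.tr_π]) (Category.id_comp _) fun W' w u => ?_
    rw [prod.comp_lift_assoc, D.tr_ψ]
  calc prod.lift a (a ≫ D.π) ≫ D.t = a ≫ prod.lift (𝟙 D.N₀) D.π ≫ D.t := by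
        rw [prod.comp_lift_assoc, Category.comp_id]
    _ = a := by rw [h, Category.comp_id]

theorem tr_tr {W : Over S} (a : W ⟶ D.N₀) (y z : W ⟶ D.P) :
    prod.lift (prod.lift a y ≫ D.t) z ≫ D.t = prod.lift a z ≫ D.t := by
  let q : D.R ⨯ D.P ⟶ D.N₀ := Limits.prod.fst ≫ Limits.prod.fst
  have h : prod.lift (Limits.prod.fst ≫ D.t) Limits.prod.snd ≫ D.t =
      prod.lift q (Limits.prod.snd : D.R ⨯ D.P ⟶ D.P) ≫ D.t := by
    refine D.inj (D.R ⨯ D.P) Limits.prod.snd (smooth_snd _ _ (smooth_prod _ _ D.smooth_N₀ D.smooth_P)) _ _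
      (by rw [Category.assoc, D.tr_π]) (by rw [Category.assoc, D.tr_π]) fun W' w u => ?_
    rw [prod.comp_lift_assoc, prod.comp_lift_assoc, D.tr_ψ, D.tr_ψ, ← Category.assoc]
    have e : w ≫ Limits.prod.fst = prod.lift (w ≫ Limits.prod.fst ≫ Limits.prod.fst)
        (w ≫ Limits.prod.fst ≫ Limits.prod.snd) := by
      apply Limits.prod.hom_ext <;> simp
    rw [e, D.tr_ψ]
  have h' := prod.lift (prod.lift a y) z ≫= h
  simpa [q, prod.comp_lift_assoc] using h'

/-- The source of the relation. -/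
abbrev s : D.R ⟶ D.N₀ := Limits.prod.fst

theorem isEqvRel : IsEqvRel D.s D.t where
  injective T r r' h₁ h₂ := by
    refine Limits.prod.hom_ext h₂ ?_
    rw [← D.t_π, ← Category.assoc, h₁, Category.assoc]
  equivalence T := by
    have key : ∀ (r : T ⟶ D.R), r = prod.lift (r ≫ D.s) (r ≫ Limits.prod.snd) := fun r => by
      apply Limits.prod.hom_ext <;> simp
    refine ⟨fun a => ⟨prod.lift a (a ≫ D.π), D.tr_self a, prod.lift_fst _ _⟩, ?_, ?_⟩
    · rintro a b ⟨r, rfl, rfl⟩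
      refine ⟨prod.lift (r ≫ D.t) ((r ≫ D.s) ≫ D.π), ?_, prod.lift_fst _ _⟩
      conv_lhs => arg 1; arg 1; rw [key r]
      rw [D.tr_tr, D.tr_self]
    · rintro a b c ⟨r, rfl, rfl⟩ ⟨r', hr', rfl⟩
      refine ⟨prod.lift (r' ≫ D.s) (r ≫ Limits.prod.snd), ?_, prod.lift_fst _ _⟩
      rw [← D.tr_tr (r' ≫ D.s) (r' ≫ Limits.prod.snd), ← key r', hr', ← key r]

/-- The descended sheaf. -/
def N : Sp S := quotSp ((yon S).map D.s) ((yon S).map D.t)

/-- The quotient map. -/
def q : (yon S).obj D.N₀ ⟶ D.N := quotSpπ _ _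

instance : Epi D.q := Groth.L24.Boot.epi_quotSpπ _ _

theorem isPullback_q : IsPullback ((yon S).map D.t) ((yon S).map D.s) D.q D.q :=
  Groth.L24.Boot.isPullback_quotSpπ (Groth.L24.Boot.isEqvRelSp_of_isEqvRel D.isEqvRel)

theorem isAlgSpace : IsAlgSpace D.N := by
  have hs : Smooth D.s.left := smooth_fst _ _ D.smooth_P
  exact Groth.L24.Boot.isAlgSpace_of_kernelPair D.isPullback_q.flip (IsAlgSpace.yon_obj _) (IsAlgSpace.yon_obj _)
    (Groth.L23.locP_of_repWith Groth.L23.etLocal_flat (Groth.L23.repWith_map (show Flat D.s.left from inferInstance)))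
    (Groth.L23.locP_of_repWith Groth.L23.etLocal_lfp
      (Groth.L23.repWith_map (show LocallyOfFinitePresentation D.s.left from inferInstance)))

theorem map_tr {W : Over S} (a : W ⟶ D.N₀) (y : W ⟶ D.P) :
    (yon S).map (prod.lift a y ≫ D.t) ≫ D.q = (yon S).map a ≫ D.q := by
  rw [Functor.map_comp, Category.assoc, D.isPullback_q.w, ← Functor.map_comp_assoc, prod.lift_fst]

theorem eq_of_q_eq {W : Over S} {a b : W ⟶ D.N₀}
    (hq : (yon S).map a ≫ D.q = (yon S).map b ≫ D.q) (hπ : a ≫ D.π = b ≫ D.π) : a = b := by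
  obtain ⟨r, hr⟩ := (yon S).map_surjective (D.isPullback_q.lift _ _ hq)
  have h₁ : r ≫ D.t = a := (yon S).map_injective (by rw [Functor.map_comp, hr]; exact D.isPullback_q.lift_fst _ _ _)
  have h₂ : r ≫ D.s = b := (yon S).map_injective (by rw [Functor.map_comp, hr]; exact D.isPullback_q.lift_snd _ _ _)
  have e : r = prod.lift b (b ≫ D.π) := by
    apply Limits.prod.hom_ext
    · rw [prod.lift_fst]; exact h₂
    · rw [prod.lift_snd, ← hπ, ← h₁, Category.assoc, D.t_π]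
  rw [← h₁, e, D.tr_self]

theorem eq_ψ_of_q_eq {W : Over S} {a b : W ⟶ D.N₀}
    (hq : (yon S).map a ≫ D.q = (yon S).map b ≫ D.q) (u : W ⟶ D.Uo) :
    prod.lift a u ≫ D.ψ = prod.lift b u ≫ D.ψ := by
  rw [D.eq_of_q_eq (a := a) (b := prod.lift b (a ≫ D.π) ≫ D.t) (by rw [hq, D.map_tr])
    (by rw [Category.assoc, D.tr_π]), D.tr_ψ]

theorem epi_map_of_cover {T T' : Over S} (c : T' ⟶ T) [Smooth c.left] [Surjective c.left] :
    Epi ((yon S).map c) := by
  have : Sheaf.IsLocallySurjective ((yon S).map c) := Groth.L23.isLocallySurjective_of_repWith _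
    (Groth.L23.repWith_map (show Flat c.left from inferInstance))
    (Groth.L23.repWith_map (show LocallyOfFinitePresentation c.left from inferInstance))
    (Groth.L23.repWith_map ‹Surjective c.left›)
  infer_instance

theorem epi_fst (T : Over S) : Epi ((yon S).map (Limits.prod.fst : T ⨯ D.P ⟶ T)) :=
  haveI := smooth_fst T D.P D.smooth_P
  haveI := surjective_fst T D.P D.surj_P
  epi_map_of_cover _

/-- Descent of maps from `h_T` along an epimorphic `c`. -/
theorem exists_desc {T T' : Over S} {Q : Sp S} (c : T' ⟶ T) [Epi ((yon S).map c)]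
    (k : (yon S).obj T' ⟶ Q)
    (h : ∀ (W : Over S) (r₁ r₂ : W ⟶ T'), r₁ ≫ c = r₂ ≫ c → (yon S).map r₁ ≫ k = (yon S).map r₂ ≫ k) :
    ∃ l : (yon S).obj T ⟶ Q, (yon S).map c ≫ l = k := by
  have sq := IsPullback.of_hasPullback ((yon S).map c) ((yon S).map c)
  obtain ⟨hc⟩ := Groth.L23.nonempty_isColimit_cofork ((yon S).map c) sq
  have hk : pullback.fst ((yon S).map c) ((yon S).map c) ≫ k = pullback.snd ((yon S).map c) ((yon S).map c) ≫ k :=
    Groth.L23.hom_ext_yon fun W x => by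
      obtain ⟨r₁, hr₁⟩ := (yon S).map_surjective (x ≫ pullback.fst _ _)
      obtain ⟨r₂, hr₂⟩ := (yon S).map_surjective (x ≫ pullback.snd _ _)
      rw [← Category.assoc, ← Category.assoc, ← hr₁, ← hr₂]
      refine h W r₁ r₂ ((yon S).map_injective ?_)
      rw [Functor.map_comp, Functor.map_comp, hr₁, hr₂, Category.assoc, Category.assoc, pullback.condition]
  exact ⟨hc.desc (Cofork.ofπ k hk), hc.fac (Cofork.ofπ k hk) WalkingParallelPair.one⟩

/-- The lift of a point of `N` to the cover. -/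
theorem exists_lift {T : Over S} (x : (yon S).obj T ⟶ D.N) (y : T ⟶ D.P) :
    ∃ b : T ⟶ D.N₀, (yon S).map b ≫ D.q = x ∧ b ≫ D.π = y := by
  obtain ⟨T', g, v, hgf, hgp, hgs, hv⟩ := Groth.L24.Boot.exists_lift_of_epi D.q x
  obtain ⟨v, rfl⟩ := (yon S).map_surjective v
  have : Sheaf.IsLocallySurjective ((yon S).map g) := Groth.L23.isLocallySurjective_of_repWith _
    (Groth.L23.repWith_map hgf) (Groth.L23.repWith_map hgp) (Groth.L23.repWith_map hgs)
  obtain ⟨b', hb, hbπ⟩ : ∃ b' : T' ⟶ D.N₀, (yon S).map b' ≫ D.q = (yon S).map g ≫ x ∧ b' ≫ D.π = g ≫ y :=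
    ⟨prod.lift v (g ≫ y) ≫ D.t, (D.map_tr _ _).trans hv, by rw [Category.assoc, D.tr_π]⟩
  obtain ⟨l, hl⟩ := exists_desc g ((yon S).map b') fun W r₁ r₂ hr => by
    rw [← Functor.map_comp, ← Functor.map_comp]
    refine congrArg _ (D.eq_of_q_eq ?_ ?_)
    · rw [Functor.map_comp, Functor.map_comp, Category.assoc, Category.assoc, hb, ← Functor.map_comp_assoc, hr,
        Functor.map_comp_assoc]
    · rw [Category.assoc, Category.assoc, hbπ, reassoc_of% hr]
  obtain ⟨b, rfl⟩ := (yon S).map_surjective l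
  refine ⟨b, ?_, ?_⟩
  · rw [← cancel_epi ((yon S).map g), reassoc_of% hl, hb]
  · apply (yon S).map_injective
    rw [← cancel_epi ((yon S).map g), Functor.map_comp, reassoc_of% hl, ← Functor.map_comp, hbπ, Functor.map_comp]

end Data

end Groth.L11.NeronSp
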