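import Groth.Agent.L11.NeronSp.Props
import Mathlib.AlgebraicGeometry.Restrict
import Mathlib.CategoryTheory.Comma.Over.Pullback

/-!
# The descent datum of a Néron model over a smooth cover
-/

set_option autoImplicit false
set_option backward.isDefEq.respectTransparency false
set_option backward.isDefEq.respectTransparency.types false
set_option linter.unusedSectionVars false

universe u

open CategoryTheory CategoryTheory.Limits AlgebraicGeometry Opposite AlgSp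

noncomputable section

namespace Groth.L11.NeronSp

variable {S S' A : Scheme.{u}} (g : S' ⟶ S) [Smooth g] [Surjective g] (U : S.Opens) (a : A ⟶ (U : Scheme.{u}))
  (N' : Over S') [Smooth N'.hom] [IsSeparated N'.hom]
  (e' : pullback N'.hom (g ⁻¹ᵁ U).ι ≅ pullback a (g ∣_ U))
  (he' : e'.hom ≫ pullback.snd a (g ∣_ U) = pullback.snd N'.hom (g ⁻¹ᵁ U).ι)

variable {Y : Over S}

/-- A point of `Y ×_S U` as a point of `Y ×_{S'} U'`. -/
def toU' (y : Y ⟶ Over.mk g) {W : Over S} (w : W ⟶ Y) (x : W ⟶ Over.mk U.ι) :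
    W.left ⟶ pullback y.left (g ⁻¹ᵁ U).ι :=
  pullback.lift w.left
    ((isPullback_morphismRestrict g U).lift x.left (w.left ≫ y.left) (by
      simpa using (Over.w x).trans (Over.w (w ≫ y)).symm))
    (IsPullback.lift_snd _ _ _ _).symm

@[reassoc (attr := simp)]
theorem toU'_fst (y : Y ⟶ Over.mk g) {W : Over S} (w : W ⟶ Y) (x : W ⟶ Over.mk U.ι) :
    toU' g U y w x ≫ pullback.fst _ _ = w.left := pullback.lift_fst _ _ _

@[reassoc (attr := simp)]
theorem toU'_snd (y : Y ⟶ Over.mk g) {W : Over S} (w : W ⟶ Y) (x : W ⟶ Over.mk U.ι) :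
    toU' g U y w x ≫ pullback.snd _ _ ≫ (g ∣_ U) = x.left := by
  rw [← Category.assoc]
  simp [toU', IsPullback.lift_fst]

omit [Smooth g] [Surjective g] in
theorem hom_ext_U' {T : Scheme.{u}} (h₁ h₂ : T ⟶ (g ⁻¹ᵁ U : S'.Opens))
    (h : h₁ ≫ (g ⁻¹ᵁ U).ι = h₂ ≫ (g ⁻¹ᵁ U).ι) : h₁ = h₂ := by
  rwa [cancel_mono] at h

/-- The projection of the model to the cover. -/
def π' : (Over.mk (N'.hom ≫ g) : Over S) ⟶ Over.mk g := Over.homMk N'.hom rfl

/-- `toU'` for the model. -/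
abbrev toN {W : Over S} (f : W ⟶ Over.mk (N'.hom ≫ g)) (x : W ⟶ Over.mk U.ι) :
    W.left ⟶ pullback N'.hom (g ⁻¹ᵁ U).ι :=
  toU' g U (π' g N') f x

theorem eq_toN {W : Over S} (f : W ⟶ Over.mk (N'.hom ≫ g)) (x : W ⟶ Over.mk U.ι)
    (k : W.left ⟶ pullback N'.hom (g ⁻¹ᵁ U).ι) (h : k ≫ pullback.fst _ _ = f.left) : toN g U N' f x = k := by
  rw [← cancel_mono (pullback.fst N'.hom (g ⁻¹ᵁ U).ι), h]
  exact toU'_fst g U (π' g N') f x

/-- The comparison map over the open. -/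
def ψ' : (Over.mk (N'.hom ≫ g) : Over S) ⨯ Over.mk U.ι ⟶ Over.mk (a ≫ U.ι) :=
  Over.homMk (toU' g U (π' g N') Limits.prod.fst Limits.prod.snd ≫ e'.hom ≫ pullback.fst a _) (by
    change _ ≫ a ≫ U.ι = _
    simp only [Category.assoc]
    rw [pullback.condition_assoc, reassoc_of% he']
    change toU' g U (π' g N') Limits.prod.fst Limits.prod.snd ≫ pullback.snd (π' g N').left _ ≫ _ = _
    rw [toU'_snd_assoc]
    exact Over.w (Limits.prod.snd : (Over.mk (N'.hom ≫ g) : Over S) ⨯ Over.mk U.ι ⟶ _))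

theorem lift_ψ'_left {W : Over S} (f : W ⟶ Over.mk (N'.hom ≫ g)) (x : W ⟶ Over.mk U.ι) :
    (prod.lift f x ≫ ψ' g U a N' e' he').left = toN g U N' f x ≫ e'.hom ≫ pullback.fst a _ := by
  rw [Over.comp_left]
  change _ ≫ toU' g U (π' g N') Limits.prod.fst Limits.prod.snd ≫ _ = _
  rw [← Category.assoc]
  congr 1
  apply pullback.hom_ext
  · rw [Category.assoc, toU'_fst, toU'_fst, ← Over.comp_left, prod.lift_fst]
  · refine hom_ext_U' g U _ _ ?_
    simp only [Category.assoc, ← pullback.condition, toU'_fst_assoc]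
    rw [← Category.assoc, ← Over.comp_left, prod.lift_fst]

variable (hN' : ∀ Y' : Over S', Smooth Y'.hom →
  Function.Bijective (fun f : Y' ⟶ N' => (Over.pullback (g ⁻¹ᵁ U).ι).map f))

/-- The base of a restriction as a scheme over `S`. -/
abbrev restr (y : Y ⟶ Over.mk g) : Over S :=
  Over.mk (pullback.snd y.left (g ⁻¹ᵁ U).ι ≫ (g ∣_ U) ≫ U.ι)

def restrFst (y : Y ⟶ Over.mk g) : restr g U y ⟶ Y :=
  Over.homMk (pullback.fst y.left (g ⁻¹ᵁ U).ι) (by
    have h : y.left ≫ g = Y.hom := Over.w y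
    change _ ≫ Y.hom = _ ≫ _ ≫ _
    rw [← h, pullback.condition_assoc, (isPullback_morphismRestrict g U).w])

def restrSnd (y : Y ⟶ Over.mk g) : restr g U y ⟶ Over.mk U.ι :=
  Over.homMk (pullback.snd y.left (g ⁻¹ᵁ U).ι ≫ (g ∣_ U)) (Category.assoc _ _ _)

include hN' in
theorem inj' (y : Y ⟶ Over.mk g) (hy : Smooth y.left) (f₁ f₂ : Y ⟶ Over.mk (N'.hom ≫ g))
    (h₁ : f₁ ≫ π' g N' = y) (h₂ : f₂ ≫ π' g N' = y)
    (h : ∀ (W : Over S) (w : W ⟶ Y) (u : W ⟶ Over.mk U.ι),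
      prod.lift (w ≫ f₁) u ≫ ψ' g U a N' e' he' = prod.lift (w ≫ f₂) u ≫ ψ' g U a N' e' he') : f₁ = f₂ := by
  let F₁ : Over.mk y.left ⟶ N' := Over.homMk f₁.left (congrArg Over.Hom.left h₁)
  let F₂ : Over.mk y.left ⟶ N' := Over.homMk f₂.left (congrArg Over.Hom.left h₂)
  let G : ∀ F : Over.mk y.left ⟶ N', pullback y.left (g ⁻¹ᵁ U).ι ⟶ pullback N'.hom (g ⁻¹ᵁ U).ι :=
    fun F => ((Over.pullback (g ⁻¹ᵁ U).ι).map F).left
  have hG : ∀ (f : Y ⟶ Over.mk (N'.hom ≫ g)) (hf : f ≫ π' g N' = y),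
      toN g U N' (restrFst g U y ≫ f) (restrSnd g U y) = G (Over.homMk f.left (congrArg Over.Hom.left hf)) := by
    intro f hf
    exact eq_toN g U N' _ _ _ (by simp [G, restrFst])
  have e : F₁ = F₂ := by
    refine (hN' (Over.mk y.left) hy).1 (Over.OverMorphism.ext ?_)
    have h' := congrArg Over.Hom.left (h (restr g U y) (restrFst g U y) (restrSnd g U y))
    rw [lift_ψ'_left, lift_ψ'_left, hG f₁ h₁, hG f₂ h₂] at h'
    change G F₁ = G F₂
    rw [← cancel_mono e'.hom]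
    refine pullback.hom_ext (by simpa using h') ?_
    simp [G, he', F₁, F₂]
  exact Over.OverMorphism.ext (congrArg (fun F : Over.mk y.left ⟶ N' => F.left) e)

include hN' in
theorem surj' (y : Y ⟶ Over.mk g) (hy : Smooth y.left) (γ : Y ⨯ Over.mk U.ι ⟶ Over.mk (a ≫ U.ι))
    (hγ : γ ≫ (Over.homMk a rfl : Over.mk (a ≫ U.ι) ⟶ Over.mk U.ι) = Limits.prod.snd) :
    ∃ f : Y ⟶ Over.mk (N'.hom ≫ g), f ≫ π' g N' = y ∧
      ∀ (W : Over S) (w : W ⟶ Y) (u : W ⟶ Over.mk U.ι),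
        prod.lift (w ≫ f) u ≫ ψ' g U a N' e' he' = prod.lift w u ≫ γ := by
  have hγ' : (prod.lift (restrFst g U y) (restrSnd g U y) ≫ γ).left ≫ a =
      pullback.snd y.left (g ⁻¹ᵁ U).ι ≫ (g ∣_ U) := by
    have h := congrArg Over.Hom.left (prod.lift (restrFst g U y) (restrSnd g U y) ≫= hγ)
    rw [prod.lift_snd] at h
    exact h
  let k := pullback.lift (prod.lift (restrFst g U y) (restrSnd g U y) ≫ γ).left
    (pullback.snd y.left (g ⁻¹ᵁ U).ι) hγ' ≫ e'.inv
  have hk : k ≫ pullback.snd N'.hom (g ⁻¹ᵁ U).ι = pullback.snd y.left (g ⁻¹ᵁ U).ι := by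
    rw [← he']; simp [k]
  obtain ⟨F, hF⟩ := (hN' (Over.mk y.left) hy).2 (Over.homMk k hk)
  have hF' : ((Over.pullback (g ⁻¹ᵁ U).ι).map F).left = k := congrArg Over.Hom.left hF
  have hFw : F.left ≫ N'.hom = y.left := Over.w F
  refine ⟨Over.homMk F.left (by change F.left ≫ N'.hom ≫ g = _; rw [reassoc_of% hFw]; exact Over.w y),
    Over.OverMorphism.ext hFw, fun W w x => Over.OverMorphism.ext ?_⟩
  rw [lift_ψ'_left]
  have h₁ : toN g U N' (w ≫ Over.homMk F.left (by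
      change F.left ≫ N'.hom ≫ g = _; rw [reassoc_of% hFw]; exact Over.w y)) x = toU' g U y w x ≫ k := by
    rw [← hF']
    exact eq_toN g U N' _ _ _ (by simp)
  rw [h₁]
  simp only [k, Category.assoc, Iso.inv_hom_id_assoc, pullback.lift_fst]
  have h₂ : ∃ p : W ⟶ restr g U y, p.left = toU' g U y w x :=
    ⟨Over.homMk (toU' g U y w x) (by
      change _ ≫ _ ≫ _ ≫ _ = _
      rw [toU'_snd_assoc]; exact Over.w x), rfl⟩
  obtain ⟨p, hp⟩ := h₂
  have hp₁ : p ≫ restrFst g U y = w := Over.OverMorphism.ext (by simp [hp, restrFst])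
  have hp₂ : p ≫ restrSnd g U y = x := Over.OverMorphism.ext (by simp [hp, restrSnd])
  rw [← hp, ← Over.comp_left, prod.comp_lift_assoc, hp₁, hp₂]

theorem bij' (T : Over S) (x : T ⟶ Over.mk U.ι) (y : T ⟶ Over.mk g) (z : T ⟶ Over.mk (a ≫ U.ι))
    (hz : z ≫ (Over.homMk a rfl : Over.mk (a ≫ U.ι) ⟶ Over.mk U.ι) = x) :
    ∃! f : T ⟶ Over.mk (N'.hom ≫ g), f ≫ π' g N' = y ∧ prod.lift f x ≫ ψ' g U a N' e' he' = z := by
  let v : T.left ⟶ (g ⁻¹ᵁ U : S'.Opens) := (isPullback_morphismRestrict g U).lift x.left y.left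
    (by simpa using (Over.w x).trans (Over.w y).symm)
  have hv₁ : v ≫ (g ∣_ U) = x.left := IsPullback.lift_fst _ _ _ _
  have hv₂ : v ≫ (g ⁻¹ᵁ U).ι = y.left := IsPullback.lift_snd _ _ _ _
  have hz' : z.left ≫ a = v ≫ (g ∣_ U) := hv₁.symm ▸ congrArg Over.Hom.left hz
  let p := pullback.lift z.left v hz' ≫ e'.inv
  have hp : p ≫ pullback.snd N'.hom (g ⁻¹ᵁ U).ι = v := by rw [← he']; simp [p]
  have hpw : (p ≫ pullback.fst N'.hom _) ≫ N'.hom = y.left := by
    rw [Category.assoc, pullback.condition, reassoc_of% hp, hv₂]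
  let f : T ⟶ Over.mk (N'.hom ≫ g) := Over.homMk (p ≫ pullback.fst N'.hom _) (by
    change _ ≫ N'.hom ≫ g = _; rw [← Category.assoc, hpw]; exact Over.w y)
  refine ⟨f, ⟨Over.OverMorphism.ext hpw, Over.OverMorphism.ext ?_⟩, fun f' hf' => ?_⟩
  · rw [lift_ψ'_left]
    have h₁ : toN g U N' f x = p := eq_toN g U N' _ _ _ rfl
    rw [h₁]; simp [p]
  · obtain ⟨hπ, hψ⟩ := hf'
    have hψ' := congrArg Over.Hom.left hψ
    rw [lift_ψ'_left] at hψ'
    have h₁ : toN g U N' f' x ≫ e'.hom = p ≫ e'.hom := by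
      apply pullback.hom_ext
      · simpa [p] using hψ'
      · simp only [Category.assoc, he', hp]
        refine hom_ext_U' g U _ _ ?_
        simp only [Category.assoc, ← pullback.condition, hv₂]
        rw [← Category.assoc, show toN g U N' f' x ≫ pullback.fst N'.hom _ = f'.left from
          toU'_fst g U (π' g N') f' x]
        exact congrArg Over.Hom.left hπ
    rw [cancel_mono] at h₁
    apply Over.OverMorphism.ext
    change f'.left = p ≫ pullback.fst N'.hom _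
    rw [← h₁]
    exact (toU'_fst g U (π' g N') f' x).symm

include hN' in
/-- The descent datum. -/
def datum : Data S where
  P := Over.mk g
  N₀ := Over.mk (N'.hom ≫ g)
  Uo := Over.mk U.ι
  A := Over.mk (a ≫ U.ι)
  π := π' g N'
  ao := Over.homMk a rfl
  ψ := ψ' g U a N' e' he'
  hψ := by
    apply Over.OverMorphism.ext
    change (toU' g U (π' g N') Limits.prod.fst Limits.prod.snd ≫ e'.hom ≫ pullback.fst a _) ≫ a = _
    simp only [Category.assoc]
    rw [pullback.condition, reassoc_of% he']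
    exact toU'_snd g U (π' g N') _ _
  smooth_P := ‹Smooth g›
  surj_P := ‹Surjective g›
  smooth_π := ‹Smooth N'.hom›
  sep_π := ‹IsSeparated N'.hom›
  bij := bij' g U a N' e' he'
  inj := fun _ => inj' g U a N' e' he' hN'
  surj := fun _ => surj' g U a N' e' he' hN'

end Groth.L11.NeronSp
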