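import Groth.Agent.L11.NeronSp.Basic
import Groth.Agent.L24.Boot.YonLemmas

/-!
# The descended sheaf over the open, and the mapping property
-/

set_option autoImplicit false
set_option backward.isDefEq.respectTransparency false
set_option backward.isDefEq.respectTransparency.types false

universe u

open CategoryTheory CategoryTheory.Limits AlgebraicGeometry Opposite AlgSp

noncomputable section

namespace Groth.L11.NeronSp

variable {S : Scheme.{u}}

namespace Data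

variable (D : Data S)

theorem exists_σ : ∃ σ : (yon S).obj D.A ⟶ D.N,
    ∀ (T : Over S) (b : T ⟶ D.N₀) (u : T ⟶ D.Uo),
      (yon S).map (prod.lift b u ≫ D.ψ) ≫ σ = (yon S).map b ≫ D.q := by
  obtain ⟨fA, ⟨hfπ, hfψ⟩, -⟩ := D.bij (D.A ⨯ D.P) (Limits.prod.fst ≫ D.ao) Limits.prod.snd Limits.prod.fst rfl
  haveI := D.epi_fst D.A
  obtain ⟨σ, hσ⟩ := exists_desc (Limits.prod.fst : D.A ⨯ D.P ⟶ D.A) ((yon S).map fA ≫ D.q) fun W r₁ r₂ hr => by
    rw [← Functor.map_comp_assoc, ← Functor.map_comp_assoc]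
    have h₁ := r₁ ≫= hfψ
    have h₂ := r₂ ≫= hfψ
    rw [prod.comp_lift_assoc] at h₁ h₂
    have hu := D.bij W (r₁ ≫ Limits.prod.fst ≫ D.ao) (r₁ ≫ Limits.prod.snd) (r₁ ≫ Limits.prod.fst) (by simp)
    have e : prod.lift (r₂ ≫ fA) (r₁ ≫ Limits.prod.snd) ≫ D.t = r₁ ≫ fA :=
      hu.unique ⟨by rw [Category.assoc, D.tr_π], by rw [D.tr_ψ, reassoc_of% hr, h₂, hr]⟩
        ⟨by rw [Category.assoc, hfπ], h₁⟩
    rw [← e, D.map_tr]
  refine ⟨σ, fun T b u => ?_⟩
  let x := prod.lift b u ≫ D.ψ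
  have hx : x ≫ D.ao = u := by rw [Category.assoc, D.hψ, prod.lift_snd]
  have e : prod.lift x (b ≫ D.π) ≫ fA = b := by
    refine (D.bij T u (b ≫ D.π) x hx).unique ⟨?_, ?_⟩ ⟨rfl, rfl⟩
    · rw [Category.assoc, hfπ, prod.lift_snd]
    · have h := prod.lift x (b ≫ D.π) ≫= hfψ
      rw [prod.comp_lift_assoc, prod.lift_fst, prod.lift_fst_assoc, hx] at h
      exact h
  calc (yon S).map x ≫ σ = (yon S).map (prod.lift x (b ≫ D.π)) ≫ (yon S).map Limits.prod.fst ≫ σ := by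
        rw [← Functor.map_comp_assoc, prod.lift_fst]
    _ = _ := by rw [hσ, ← Functor.map_comp_assoc, e]

/-- The map `h_A ⟶ N`. -/
def σ : (yon S).obj D.A ⟶ D.N := D.exists_σ.choose

theorem σ_ψ {T : Over S} (b : T ⟶ D.N₀) (u : T ⟶ D.Uo) :
    (yon S).map (prod.lift b u ≫ D.ψ) ≫ D.σ = (yon S).map b ≫ D.q :=
  D.exists_σ.choose_spec T b u

theorem exists_iso : ∃ e : D.N ⨯ (yon S).obj D.Uo ≅ (yon S).obj D.A,
    e.hom ≫ (yon S).map D.ao = Limits.prod.snd ∧
    ∀ (T : Over S) (b : T ⟶ D.N₀) (u : T ⟶ D.Uo),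
      prod.lift ((yon S).map b ≫ D.q) ((yon S).map u) ≫ e.hom = (yon S).map (prod.lift b u ≫ D.ψ) := by
  let m : (yon S).obj D.A ⟶ D.N ⨯ (yon S).obj D.Uo := prod.lift D.σ ((yon S).map D.ao)
  have hm : ∀ (T : Over S) (b : T ⟶ D.N₀) (u : T ⟶ D.Uo),
      (yon S).map (prod.lift b u ≫ D.ψ) ≫ m = prod.lift ((yon S).map b ≫ D.q) ((yon S).map u) := by
    intro T b u
    rw [prod.comp_lift, D.σ_ψ, ← Functor.map_comp, Category.assoc, D.hψ, prod.lift_snd]
  have : IsIso m := by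
    refine Groth.L24.Boot.isIso_of_yon m (fun T x x' hxx => ?_) fun T z => ?_
    · obtain ⟨a, rfl⟩ := (yon S).map_surjective x
      obtain ⟨a', rfl⟩ := (yon S).map_surjective x'
      refine congrArg _ ?_
      have hσ : (yon S).map a ≫ D.σ = (yon S).map a' ≫ D.σ := by
        simpa [m] using hxx =≫ Limits.prod.fst
      have ho : a ≫ D.ao = a' ≫ D.ao := (yon S).map_injective (by simpa [m] using hxx =≫ Limits.prod.snd)
      haveI := D.epi_fst T
      apply (yon S).map_injective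
      rw [← cancel_epi ((yon S).map (Limits.prod.fst : T ⨯ D.P ⟶ T)), ← Functor.map_comp, ← Functor.map_comp]
      obtain ⟨b, ⟨hbπ, hbψ⟩, -⟩ := D.bij (T ⨯ D.P) (Limits.prod.fst ≫ a ≫ D.ao) Limits.prod.snd
        (Limits.prod.fst ≫ a) (by simp)
      obtain ⟨b', ⟨hbπ', hbψ'⟩, -⟩ := D.bij (T ⨯ D.P) (Limits.prod.fst ≫ a ≫ D.ao) Limits.prod.snd
        (Limits.prod.fst ≫ a') (by simp [ho])
      rw [← hbψ, ← hbψ', D.eq_of_q_eq (a := b) (b := b') ?_ (hbπ.trans hbπ'.symm)]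
      rw [← D.σ_ψ b (Limits.prod.fst ≫ a ≫ D.ao), ← D.σ_ψ b' (Limits.prod.fst ≫ a ≫ D.ao), hbψ, hbψ',
        Functor.map_comp, Functor.map_comp, Category.assoc, Category.assoc, hσ]
    · obtain ⟨u, hu⟩ := (yon S).map_surjective (z ≫ Limits.prod.snd)
      haveI := D.epi_fst T
      let c : T ⨯ D.P ⟶ T := Limits.prod.fst
      obtain ⟨b, hb, hbπ⟩ := D.exists_lift ((yon S).map c ≫ z ≫ Limits.prod.fst) Limits.prod.snd
      let a' := prod.lift b (c ≫ u) ≫ D.ψ
      obtain ⟨l, hl⟩ := exists_desc c ((yon S).map a') fun W r₁ r₂ hr => by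
        rw [← Functor.map_comp, ← Functor.map_comp]
        refine congrArg _ ?_
        have hr' : r₁ ≫ c ≫ u = r₂ ≫ c ≫ u := by rw [← Category.assoc, hr, Category.assoc]
        simp only [a', prod.comp_lift_assoc, hr']
        refine D.eq_ψ_of_q_eq ?_ _
        rw [Functor.map_comp, Functor.map_comp, Category.assoc, Category.assoc, hb, ← Functor.map_comp_assoc, hr,
          Functor.map_comp_assoc]
      refine ⟨l, ?_⟩
      rw [← cancel_epi ((yon S).map c), reassoc_of% hl, hm, hb]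
      apply Limits.prod.hom_ext
      · simp
      · simp [Functor.map_comp, hu]
  refine ⟨(asIso m).symm, ?_, fun T b u => ?_⟩
  · rw [Iso.symm_hom, asIso_inv, IsIso.inv_comp_eq, prod.lift_snd]
  · rw [Iso.symm_hom, asIso_inv, IsIso.comp_inv_eq, hm]

/-- The isomorphism over the open. -/
def e : D.N ⨯ (yon S).obj D.Uo ≅ (yon S).obj D.A := D.exists_iso.choose

theorem e_ao : D.e.hom ≫ (yon S).map D.ao = Limits.prod.snd := D.exists_iso.choose_spec.1

theorem e_q {T : Over S} (b : T ⟶ D.N₀) (u : T ⟶ D.Uo) :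
    prod.lift ((yon S).map b ≫ D.q) ((yon S).map u) ≫ D.e.hom = (yon S).map (prod.lift b u ≫ D.ψ) :=
  D.exists_iso.choose_spec.2 T b u

theorem hom_unique (T : Over S) (hT : Smooth T.hom) (φ₁ φ₂ : (yon S).obj T ⟶ D.N)
    (h : prod.map φ₁ (𝟙 ((yon S).obj D.Uo)) ≫ D.e.hom = prod.map φ₂ (𝟙 ((yon S).obj D.Uo)) ≫ D.e.hom) :
    φ₁ = φ₂ := by
  let c : T ⨯ D.P ⟶ T := Limits.prod.fst
  obtain ⟨f₁, h₁, h₁π⟩ := D.exists_lift ((yon S).map c ≫ φ₁) Limits.prod.snd
  obtain ⟨f₂, h₂, h₂π⟩ := D.exists_lift ((yon S).map c ≫ φ₂) Limits.prod.snd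
  have e : f₁ = f₂ := by
    refine D.inj (T ⨯ D.P) Limits.prod.snd (smooth_snd _ _ hT) f₁ f₂ h₁π h₂π fun W w u => ?_
    apply (yon S).map_injective
    rw [← D.e_q, ← D.e_q, Functor.map_comp, Functor.map_comp, Category.assoc, Category.assoc, h₁, h₂]
    have h' := prod.lift ((yon S).map (w ≫ c)) ((yon S).map u) ≫= h
    simpa [prod.lift_map_assoc] using h'
  haveI := D.epi_fst T
  rw [← cancel_epi ((yon S).map c), ← h₁, ← h₂, e]

theorem hom_exists (T : Over S) (hT : Smooth T.hom)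
    (γ : (yon S).obj T ⨯ (yon S).obj D.Uo ⟶ (yon S).obj D.A)
    (hγ : γ ≫ (yon S).map D.ao = Limits.prod.snd) :
    ∃ φ : (yon S).obj T ⟶ D.N, prod.map φ (𝟙 ((yon S).obj D.Uo)) ≫ D.e.hom = γ := by
  obtain ⟨γ₀, hγ₀⟩ := (yon S).map_surjective ((PreservesLimitPair.iso (yon S) T D.Uo).hom ≫ γ)
  have hpt : ∀ {W : Over S} (w : W ⟶ T) (u : W ⟶ D.Uo),
      (yon S).map (prod.lift w u ≫ γ₀) = prod.lift ((yon S).map w) ((yon S).map u) ≫ γ := by
    intro W w u
    rw [Functor.map_comp, hγ₀, ← Category.assoc]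
    congr 1
    apply Limits.prod.hom_ext <;> simp [PreservesLimitPair.iso_hom, ← Functor.map_comp]
  have hγ₀' : γ₀ ≫ D.ao = Limits.prod.snd := by
    apply (yon S).map_injective
    rw [Functor.map_comp, hγ₀, Category.assoc, hγ]
    simp [PreservesLimitPair.iso_hom]
  let c : T ⨯ D.P ⟶ T := Limits.prod.fst
  obtain ⟨f, hfπ, hf⟩ := D.surj (T ⨯ D.P) Limits.prod.snd (smooth_snd _ _ hT) (prod.map c (𝟙 _) ≫ γ₀)
    (by rw [Category.assoc, hγ₀', prod.map_snd, Category.comp_id])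
  have key : prod.lift (Limits.prod.fst ≫ f) Limits.prod.snd ≫ D.t =
      prod.lift (Limits.prod.fst ≫ c) (Limits.prod.snd : (T ⨯ D.P) ⨯ D.P ⟶ D.P) ≫ f := by
    refine D.inj _ Limits.prod.snd (smooth_snd _ _ (smooth_prod _ _ hT D.smooth_P)) _ _
      (by rw [Category.assoc, D.tr_π]) (by rw [Category.assoc, hfπ, prod.lift_snd]) fun W w u => ?_
    rw [prod.comp_lift_assoc, D.tr_ψ, ← Category.assoc w Limits.prod.fst f, hf,
      ← Category.assoc w (prod.lift _ _) f, hf, prod.lift_map_assoc, prod.lift_map_assoc]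
    simp [c]
  haveI := D.epi_fst T
  obtain ⟨φ, hφ⟩ := exists_desc c ((yon S).map f ≫ D.q) fun W r₁ r₂ hr => by
    rw [← Functor.map_comp_assoc, ← Functor.map_comp_assoc]
    have h' := prod.lift r₂ (r₁ ≫ Limits.prod.snd) ≫= key
    rw [prod.comp_lift_assoc, prod.comp_lift_assoc, prod.lift_fst_assoc, prod.lift_fst_assoc, prod.lift_snd, ← hr,
      show prod.lift (r₁ ≫ c) (r₁ ≫ Limits.prod.snd) = r₁ by apply Limits.prod.hom_ext <;> simp [c]] at h'
    rw [← h', D.map_tr]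
  refine ⟨φ, Groth.L23.hom_ext_yon fun W x => ?_⟩
  obtain ⟨w, hw⟩ := (yon S).map_surjective (x ≫ Limits.prod.fst)
  obtain ⟨u, hu⟩ := (yon S).map_surjective (x ≫ Limits.prod.snd)
  obtain rfl : x = prod.lift ((yon S).map w) ((yon S).map u) := by
    apply Limits.prod.hom_ext <;> simp [hw, hu]
  rw [prod.lift_map_assoc, Category.comp_id, ← hpt]
  haveI := D.epi_fst W
  let d : W ⨯ D.P ⟶ W := Limits.prod.fst
  let r : W ⨯ D.P ⟶ T ⨯ D.P := prod.map w (𝟙 _)
  have hr : r ≫ c = d ≫ w := prod.map_fst _ _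
  rw [← cancel_epi ((yon S).map d), prod.comp_lift_assoc, ← Functor.map_comp_assoc, ← hr, Functor.map_comp_assoc,
    hφ, ← Functor.map_comp_assoc, ← Functor.map_comp, D.e_q, hf, prod.lift_map_assoc, Category.comp_id, hr,
    ← Functor.map_comp, prod.comp_lift_assoc]

end Data

end Groth.L11.NeronSp
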