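import Groth.Agent.L11.NeronSp.Open
import Groth.Agent.L23.LocP
import Groth.Agent.L23.FppfSmooth
import Groth.Prelude.Def_AlgSp3

/-!
# Smoothness and separatedness of the descended sheaf
-/

set_option autoImplicit false
set_option backward.isDefEq.respectTransparency false
set_option backward.isDefEq.respectTransparency.types false

universe u

open CategoryTheory CategoryTheory.Limits AlgebraicGeometry Opposite AlgSp

noncomputable section

namespace Groth.L11.NeronSp

variable {S : Scheme.{u}}

namespace Data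

variable (D : Data S)

theorem locP_smooth (p : D.N ⟶ (yon S).obj (Over.mk (𝟙 S))) : LocP @Smooth p := by
  intro V W a b h ha hb _
  let c : V ⨯ D.P ⟶ V := Limits.prod.fst
  obtain ⟨f, hf, hfπ⟩ := D.exists_lift ((yon S).map c ≫ a) Limits.prod.snd
  have sq : IsPullback ((yon S).map c) ((yon S).map f) a D.q := by
    refine Groth.L24.Boot.isPullback_of_yon hf.symm (fun T x y h₁ h₂ => ?_) fun T x y hxy => ?_
    · obtain ⟨x, rfl⟩ := (yon S).map_surjective x
      obtain ⟨y, rfl⟩ := (yon S).map_surjective y
      rw [← Functor.map_comp, ← Functor.map_comp] at h₁ h₂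
      refine congrArg _ (Limits.prod.hom_ext ((yon S).map_injective h₁) ?_)
      rw [← hfπ, ← Category.assoc, (yon S).map_injective h₂, Category.assoc]
    · obtain ⟨v, rfl⟩ := (yon S).map_surjective x
      obtain ⟨n, rfl⟩ := (yon S).map_surjective y
      refine ⟨(yon S).map (prod.lift v (n ≫ D.π)), by rw [← Functor.map_comp, prod.lift_fst], ?_⟩
      rw [← Functor.map_comp]
      refine congrArg _ (D.eq_of_q_eq ?_ (by rw [Category.assoc, hfπ, prod.lift_snd]))
      rw [Functor.map_comp, Category.assoc, hf, ← Functor.map_comp_assoc, prod.lift_fst, hxy]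
  have hfe : Etale f.left := Groth.L23.repWith_prop ha sq.flip.flip
  obtain ⟨b₀, rfl⟩ := (yon S).map_surjective b
  have hb₀ : Etale b₀.left := (repWith_yon_map_iff _ _).1 hb
  have hW : Etale W.hom := by
    rw [← Over.w b₀]
    exact MorphismProperty.comp_mem _ _ _ hb₀ (inferInstanceAs (Etale (𝟙 S)))
  haveI := smooth_fst V D.P D.smooth_P
  haveI := surjective_fst V D.P D.surj_P
  haveI := D.smooth_N₀
  have hV : Smooth V.hom := by
    refine Groth.L23.FppfSmooth.smooth_of_fppf_comp c.left V.hom ?_
    rw [Over.w c, ← Over.w f]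
    infer_instance
  exact Groth.L23.etLocal_smooth.of_comp_etale h.left W.hom (by rw [Over.w h]; exact hV)

theorem isSeparatedSp : IsSeparatedSp D.N := by
  let π' := (yon S).map D.π
  let b : pullback π' π' ⟶ D.N ⨯ D.N :=
    prod.lift (pullback.fst π' π' ≫ D.q) (pullback.snd π' π' ≫ D.q)
  have sq : IsPullback D.q (pullback.diagonal π') (Limits.diag D.N) b := by
    refine Groth.L24.Boot.isPullback_of_yon ?_ (fun T x y h₁ h₂ => ?_) fun T x z hxz => ?_
    · apply Limits.prod.hom_ext <;> simp [b]
    · simpa using h₂ =≫ pullback.fst π' π'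
    · obtain ⟨a₁, ha₁⟩ := (yon S).map_surjective (z ≫ pullback.fst π' π')
      obtain ⟨a₂, ha₂⟩ := (yon S).map_surjective (z ≫ pullback.snd π' π')
      have h₁ : x = (yon S).map a₁ ≫ D.q := by simpa [b, ha₁] using hxz =≫ Limits.prod.fst
      have h₂ : x = (yon S).map a₂ ≫ D.q := by simpa [b, ha₂] using hxz =≫ Limits.prod.snd
      have e : a₁ = a₂ := by
        refine D.eq_of_q_eq (h₁.symm.trans h₂) ((yon S).map_injective ?_)
        rw [Functor.map_comp, Functor.map_comp, ha₁, ha₂]
        simp [π', pullback.condition]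
      refine ⟨(yon S).map a₁, h₁.symm, pullback.hom_ext ?_ ?_⟩
      · simp [ha₁]
      · rw [e]; simp [ha₂]
  have : Sheaf.IsLocallySurjective b := ⟨fun {T} x => by
    let c : T ⨯ D.P ⟶ T := Limits.prod.fst
    haveI := smooth_fst T D.P D.smooth_P
    haveI := surjective_fst T D.P D.surj_P
    obtain ⟨a₁, h₁, h₁π⟩ := D.exists_lift ((yon S).map c ≫ Groth.L23.toHom x ≫ Limits.prod.fst) Limits.prod.snd
    obtain ⟨a₂, h₂, h₂π⟩ := D.exists_lift ((yon S).map c ≫ Groth.L23.toHom x ≫ Limits.prod.snd) Limits.prod.snd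
    let z : (yon S).obj (T ⨯ D.P) ⟶ pullback π' π' := pullback.lift ((yon S).map a₁) ((yon S).map a₂)
      (by simp only [π', ← Functor.map_comp, h₁π, h₂π])
    have hz : z ≫ b = (yon S).map c ≫ Groth.L23.toHom x := by
      apply Limits.prod.hom_ext
      · simp [z, b, h₁]
      · simp [z, b, h₂]
    refine GrothendieckTopology.superset_covering _ ?_ (Groth.L23.generate_singleton_mem c)
    rw [Sieve.generate_le_iff]
    rintro W v ⟨⟩
    refine ⟨(J S).uliftYonedaEquiv z, ?_⟩
    change b.hom.app _ _ = _
    rw [← GrothendieckTopology.uliftYonedaEquiv_comp, hz, ← GrothendieckTopology.uliftYonedaEquiv_naturality,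
      Equiv.apply_symm_apply]⟩
  have := Groth.L23.isLocalAtTarget_fppf (@IsClosedImmersion : MorphismProperty Scheme.{u})
  exact Groth.L23.repWith_of_locallySurjective D.isAlgSpace.diag sq
    ((isSeparatedMor_yon_map_iff D.π).2 D.sep_π)

theorem isSeparatedMor (p : D.N ⟶ (yon S).obj (Over.mk (𝟙 S))) : IsSeparatedMor p := by
  have hT : IsTerminal ((yon S).obj (Over.mk (𝟙 S))) := Over.mkIdTerminal.isTerminalObj (yon S)
  let k : pullback p p ⟶ D.N ⨯ D.N := prod.lift (pullback.fst p p) (pullback.snd p p)
  have : IsIso k := ⟨pullback.lift Limits.prod.fst Limits.prod.snd (hT.hom_ext _ _),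
    pullback.hom_ext (by simp [k]) (by simp [k]), Limits.prod.hom_ext (by simp [k]) (by simp [k])⟩
  have e : pullback.diagonal p = Limits.diag D.N ≫ inv k := by
    rw [IsIso.eq_comp_inv]
    apply Limits.prod.hom_ext <;> simp [k]
  change RepWith @IsClosedImmersion (pullback.diagonal p)
  rw [e]
  exact MorphismProperty.RespectsIso.postcomp _ _ _ D.isSeparatedSp

end Data

end Groth.L11.NeronSp
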